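import Groth.Agent.PointsP2.Stair
import Mathlib.FieldTheory.IsAlgClosed.AlgebraicClosure
import Mathlib.RingTheory.Polynomial.Basic
import Mathlib.RingTheory.Noetherian.Basic
import Mathlib.LinearAlgebra.Matrix.Rank

/-! Descent of the number of generators to the ground field. -/

namespace Groth.Agent.PointsP2

open MvPolynomial
open scoped Classical

variable {k K : Type*} [Field k] [Field K] [Algebra k K]

/-- Apply a functional to the coefficients. -/
noncomputable def push (φ : K →ₗ[k] k) (h : MvPolynomial (Fin 3) K) : MvPolynomial (Fin 3) k :=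
  ∑ m ∈ h.support, monomial m (φ (coeff m h))

theorem coeff_push (φ : K →ₗ[k] k) (h : MvPolynomial (Fin 3) K) (m : Fin 3 →₀ ℕ) :
    coeff m (push φ h) = φ (coeff m h) := by
  classical
  rw [push, coeff_sum]
  simp only [coeff_monomial]
  rw [Finset.sum_ite_eq']
  split_ifs with hm
  · rfl
  · rw [notMem_support_iff.1 hm, map_zero]

theorem push_add (φ : K →ₗ[k] k) (a b : MvPolynomial (Fin 3) K) :
    push φ (a + b) = push φ a + push φ b := by
  ext m; simp [coeff_push]

theorem push_mul_map (φ : K →ₗ[k] k) (a : MvPolynomial (Fin 3) K) (s : MvPolynomial (Fin 3) k) :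
    push φ (a * MvPolynomial.map (algebraMap k K) s) = push φ a * s := by
  classical
  ext m
  rw [coeff_push, coeff_mul, coeff_mul, map_sum]
  refine Finset.sum_congr rfl fun x _ => ?_
  rw [coeff_map, coeff_push, mul_comm, ← Algebra.smul_def, map_smul, smul_eq_mul, mul_comm]

theorem push_sum {ι : Type*} (φ : K →ₗ[k] k) (s : Finset ι) (a : ι → MvPolynomial (Fin 3) K) :
    push φ (∑ i ∈ s, a i) = ∑ i ∈ s, push φ (a i) := by
  ext m; simp [coeff_push, coeff_sum]

theorem push_component (φ : K →ₗ[k] k) (j : ℕ) (h : MvPolynomial (Fin 3) K) :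
    homogeneousComponent j (push φ h) = push φ (homogeneousComponent j h) := by
  classical
  ext m
  simp only [coeff_homogeneousComponent, coeff_push]
  split_ifs <;> simp

theorem eval_push (φ : K →ₗ[k] k) (h : MvPolynomial (Fin 3) K) (p : Fin 3 → k) :
    eval p (push φ h) = φ (eval (fun i => algebraMap k K (p i)) h) := by
  induction h using MvPolynomial.induction_on' with
  | add a b ha hb => rw [push_add, map_add, ha, hb, map_add, map_add]
  | monomial m c =>
    classical
    have : push φ (monomial m c) = monomial m (φ c) := by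
      ext x; simp only [coeff_push, coeff_monomial]; split_ifs <;> simp
    rw [this, eval_monomial, eval_monomial]
    simp only [Finsupp.prod, ← map_pow, ← map_prod]
    rw [mul_comm c, ← Algebra.smul_def, map_smul, smul_eq_mul, mul_comm]

/-- Membership in the vanishing ideal. -/
def VanAll (Z : Finset (Fin 3 → k)) (h : MvPolynomial (Fin 3) k) : Prop :=
  ∀ p ∈ Z, ∀ j : ℕ, eval p (homogeneousComponent j h) = 0

theorem van_component {Z : Finset (Fin 3 → k)} {h : MvPolynomial (Fin 3) k} (hh : VanAll Z h)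
    (j : ℕ) : VanAll Z (homogeneousComponent j h) := by
  classical
  intro p hp i
  rw [homogeneousComponent_of_mem (homogeneousComponent_mem j h)]
  split_ifs
  · exact hh p hp j
  · simp

/-- A relation among minimal homogeneous generators has no constant coefficient. -/
theorem no_const_relation {T : Finset (MvPolynomial (Fin 3) k)}
    (hhom : ∀ t ∈ T, ∃ e, t.IsHomogeneous e) {t₀ : MvPolynomial (Fin 3) k} (ht₀ : t₀ ∈ T)
    (h0 : t₀ ≠ 0) (c : MvPolynomial (Fin 3) k → MvPolynomial (Fin 3) k)
    (hrel : ∑ t ∈ T, c t * t = 0) (hc : coeff 0 (c t₀) = 1) :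
    t₀ ∈ Ideal.span ((T.erase t₀ : Finset _) : Set (MvPolynomial (Fin 3) k)) := by
  classical
  obtain ⟨e₀, he₀⟩ := hhom t₀ ht₀
  set S := Ideal.span ((T.erase t₀ : Finset _) : Set (MvPolynomial (Fin 3) k))
  have key : ∀ (a t : MvPolynomial (Fin 3) k) (e : ℕ), t.IsHomogeneous e →
      homogeneousComponent e₀ (a * t) = ∑ j ∈ Finset.range (a.totalDegree + 1),
        if e₀ = j + e then homogeneousComponent j a * t else 0 := by
    intro a t e ht
    conv_lhs => rw [← sum_homogeneousComponent a, Finset.sum_mul, map_sum]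
    refine Finset.sum_congr rfl fun j _ => ?_
    exact homogeneousComponent_of_mem ((homogeneousComponent_mem j a).mul ht)
  have h1 : homogeneousComponent e₀ (c t₀ * t₀) = t₀ := by
    rw [key _ _ _ he₀, Finset.sum_eq_single 0]
    · rw [if_pos (zero_add _).symm, homogeneousComponent_zero, hc, C_1, one_mul]
    · intro j _ hj; rw [if_neg (by omega)]
    · intro h; exact absurd (Finset.mem_range.2 (Nat.succ_pos _)) h
  have h2 : t₀ = -∑ t ∈ T.erase t₀, homogeneousComponent e₀ (c t * t) := by
    have h := congrArg (homogeneousComponent e₀) hrel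
    rw [map_sum, map_zero, ← Finset.add_sum_erase _ _ ht₀, h1] at h
    exact eq_neg_of_add_eq_zero_left h
  rw [h2]
  refine S.neg_mem (S.sum_mem fun t ht => ?_)
  obtain ⟨e, he⟩ := hhom t (Finset.mem_of_mem_erase ht)
  rw [key _ _ _ he]
  refine S.sum_mem fun j _ => ?_
  split_ifs
  · exact S.mul_mem_left _ (Ideal.subset_span ht)
  · exact S.zero_mem

theorem exists_few_gens (Z : Finset (Fin 3 → k)) (hZ : ∀ p ∈ Z, p ≠ 0)
    (I : Ideal (MvPolynomial (Fin 3) k)) (hI : ∀ f, f ∈ I ↔ VanAll Z f) (d : ℕ)
    (f : MvPolynomial (Fin 3) k) (hfI : f ∈ I) (hf : f.IsHomogeneous d) (hf0 : f ≠ 0) :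
    ∃ T : Finset (MvPolynomial (Fin 3) k), T.card ≤ d + 1 ∧ Ideal.span (T : Set _) = I := by
  classical
  let K := AlgebraicClosure k
  let ι : (Fin 3 → k) → (Fin 3 → K) := fun p i => algebraMap k K (p i)
  have hιZ : ∀ p ∈ Z.image ι, p ≠ 0 := by
    simp only [Finset.mem_image]
    rintro _ ⟨p, hp, rfl⟩ h
    exact hZ p hp (funext fun i => (map_eq_zero _).1 (congrFun h i))
  have hev : ∀ (g : MvPolynomial (Fin 3) k) p,
      eval (ι p) (MvPolynomial.map (algebraMap k K) g) = algebraMap k K (eval p g) := by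
    intro g p
    simp [ι, MvPolynomial.eval_map, eval₂_comp]; rfl
  have hfv : Van (Z.image ι) (MvPolynomial.map (algebraMap k K) f) := by
    simp only [Van, Finset.mem_image]
    rintro _ ⟨p, hp, rfl⟩
    have := (hI f).1 hfI p hp d
    rw [homogeneousComponent_of_mem hf, if_pos rfl] at this
    rw [hev, this, map_zero]
  obtain ⟨g, hg, hgen⟩ := gens (Z.image ι) hιZ d _ (hf.map (algebraMap k K))
    (fun h => hf0 (map_injective _ (algebraMap k K).injective (by rw [h, map_zero]))) hfv
  -- homogeneous generators over `k`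
  let H : Set (MvPolynomial (Fin 3) k) := {t | t ∈ I ∧ ∃ e, t.IsHomogeneous e}
  have hH : Ideal.span H = I := by
    refine le_antisymm (Ideal.span_le.2 fun t ht => ht.1) fun t ht => ?_
    rw [← sum_homogeneousComponent t]
    exact Ideal.sum_mem _ fun j _ => Ideal.subset_span
      ⟨(hI _).2 (van_component ((hI t).1 ht) j), j, homogeneousComponent_isHomogeneous j t⟩
  obtain ⟨T₁, hT₁sub, hT₁⟩ : ∃ T₁ : Finset (MvPolynomial (Fin 3) k), (T₁ : Set _) ⊆ H ∧
      Ideal.span (T₁ : Set _) = I := by
    have hfg : (Submodule.span (MvPolynomial (Fin 3) k) H).FG := IsNoetherian.noetherian _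
    obtain ⟨T₁, h1, h2⟩ := (Submodule.fg_span_iff_fg_span_finset_subset H).1 hfg
    exact ⟨T₁, h1, (h2.symm.trans hH : _)⟩
  have hex : ∃ n, ∃ T : Finset (MvPolynomial (Fin 3) k), T.card = n ∧ (T : Set _) ⊆ H ∧
      Ideal.span (T : Set _) = I := ⟨_, T₁, rfl, hT₁sub, hT₁⟩
  obtain ⟨T, hTc, hTH, hT⟩ := Nat.find_spec hex
  refine ⟨T, ?_, hT⟩
  by_contra hbig
  push Not at hbig
  have hmin : ∀ t ∈ T, t ∉ Ideal.span ((T.erase t : Finset _) : Set (MvPolynomial (Fin 3) k)) := by
    intro t ht hmem
    have hlt : (T.erase t).card < T.card := Finset.card_erase_lt_of_mem ht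
    refine Nat.find_min hex (hTc ▸ hlt) ⟨_, rfl, fun x hx => hTH (Finset.mem_of_mem_erase hx), ?_⟩
    refine le_antisymm ?_ ?_
    · rw [← hT]; exact Ideal.span_mono (fun x hx => Finset.mem_of_mem_erase hx)
    · conv_lhs => rw [← hT]
      refine Ideal.span_le.2 fun x hx => ?_
      by_cases h : x = t
      · exact h ▸ hmem
      · exact Ideal.subset_span (Finset.mem_erase.2 ⟨h, hx⟩)
  let Tv : T → MvPolynomial (Fin 3) K := fun t => MvPolynomial.map (algebraMap k K) t.1
  -- the generators over `K` lie in the span of `T`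
  have hgT : ∀ i, g i ∈ Ideal.span (Set.range Tv) := by
    intro i
    let b := Module.Basis.ofVectorSpace k K
    let F := (g i).support.biUnion fun m => (b.repr (coeff m (g i))).support
    have hdec : g i = ∑ x ∈ F, C (b x) * MvPolynomial.map (algebraMap k K) (push (b.coord x) (g i)) := by
      ext m
      rw [coeff_sum]
      simp only [coeff_C_mul, coeff_map, coeff_push, Module.Basis.coord_apply]
      by_cases hm : m ∈ (g i).support
      · have hsub : (b.repr (coeff m (g i))).support ⊆ F :=
          Finset.subset_biUnion_of_mem (fun m => (b.repr (coeff m (g i))).support) hm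
        conv_lhs => rw [← b.linearCombination_repr (coeff m (g i))]
        rw [Finsupp.linearCombination_apply, Finsupp.sum_of_support_subset _ hsub _ (by simp)]
        exact Finset.sum_congr rfl fun x _ => by rw [Algebra.smul_def, mul_comm]
      · simp [notMem_support_iff.1 hm]
    rw [hdec]
    refine Ideal.sum_mem _ fun x _ => Ideal.mul_mem_left _ _ ?_
    have hx : push (b.coord x) (g i) ∈ I := by
      refine (hI _).2 fun p hp j => ?_
      rw [push_component, eval_push]
      suffices h : eval (ι p) (homogeneousComponent j (g i)) = 0 by rw [h, map_zero]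
      obtain ⟨hv, e, he⟩ := hg i
      rw [homogeneousComponent_of_mem he]
      split_ifs
      · exact hv _ (Finset.mem_image_of_mem _ hp)
      · exact map_zero _
    rw [← hT] at hx
    have := Ideal.mem_map_of_mem (MvPolynomial.map (algebraMap k K)) hx
    rw [Ideal.map_span] at this
    refine Ideal.span_mono ?_ this
    rintro _ ⟨t, ht, rfl⟩
    exact ⟨⟨t, ht⟩, rfl⟩
  have hTg : ∀ t : T, Tv t ∈ Ideal.span (Set.range g) := by
    intro t
    obtain ⟨htI, e, he⟩ := hTH t.2
    refine hgen _ e (he.map _) ?_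
    simp only [Van, Finset.mem_image]
    rintro _ ⟨p, hp, rfl⟩
    have := (hI t.1).1 htI p hp e
    rw [homogeneousComponent_of_mem he, if_pos rfl] at this
    rw [hev, this, map_zero]
  choose A hA using fun i => (Ideal.mem_span_range_iff_exists_fun).1 (hgT i)
  choose B hB using fun t => (Ideal.mem_span_range_iff_exists_fun).1 (hTg t)
  let A₀ : Matrix (Fin (d + 1)) T K := Matrix.of fun i t => coeff 0 (A i t)
  let B₀ : Matrix T (Fin (d + 1)) K := Matrix.of fun t i => coeff 0 (B t i)
  have hne : B₀ * A₀ ≠ 1 := by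
    intro h
    have h1 := congrArg Matrix.rank h
    rw [Matrix.rank_one] at h1
    have h2 := (Matrix.rank_mul_le_left B₀ A₀).trans B₀.rank_le_card_width
    rw [h1, Fintype.card_coe, Fintype.card_fin] at h2
    omega
  obtain ⟨τ, σ, hτσ⟩ : ∃ τ σ, (B₀ * A₀) τ σ ≠ (1 : Matrix T T K) τ σ := by
    by_contra h; push Not at h; exact hne (Matrix.ext h)
  let cK : T → MvPolynomial (Fin 3) K := fun s => (if τ = s then 1 else 0) - ∑ i, B τ i * A i s
  have hrelK : ∑ s, cK s * Tv s = 0 := by
    have e1 : ∑ s, (∑ i, B τ i * A i s) * Tv s = Tv τ := by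
      simp only [Finset.sum_mul, mul_assoc]
      rw [Finset.sum_comm]
      simp only [← Finset.mul_sum, hA, hB]
    simp only [cK, sub_mul, Finset.sum_sub_distrib, e1, ite_mul, one_mul, zero_mul]
    simp
  have hcc : coeff 0 (cK σ) ≠ 0 := by
    intro h
    apply hτσ
    have hz : ∀ a b : MvPolynomial (Fin 3) K, coeff 0 (a * b) = coeff 0 a * coeff 0 b := fun a b => by
      simpa [constantCoeff_eq] using map_mul (constantCoeff (σ := Fin 3) (R := K)) a b
    simp only [cK, coeff_sub, coeff_sum, hz, sub_eq_zero] at h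
    rw [Matrix.mul_apply, Matrix.one_apply]
    simp only [A₀, B₀, Matrix.of_apply]
    rw [← h]
    split_ifs <;> simp
  obtain ⟨φ, hφ⟩ : ∃ φ : K →ₗ[k] k, φ (coeff 0 (cK σ)) = 1 := by
    obtain ⟨ψ, hψ, -⟩ := Submodule.exists_le_ker_of_notMem (p := (⊥ : Submodule k K))
      (v := coeff 0 (cK σ)) (by simpa using hcc)
    exact ⟨(ψ (coeff 0 (cK σ)))⁻¹ • ψ, by simp [hψ]⟩
  have hrel : ∑ s : T, push φ (cK s) * s.1 = 0 := by
    have := congrArg (push φ) hrelK
    rw [push_sum] at this
    simp only [Tv, push_mul_map] at this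
    rw [this]
    ext m; simp [coeff_push]
  have hσ0 : σ.1 ≠ 0 := fun h => hmin σ.1 σ.2 (h ▸ Ideal.zero_mem _)
  let c : MvPolynomial (Fin 3) k → MvPolynomial (Fin 3) k := fun x =>
    if h : x ∈ T then push φ (cK ⟨x, h⟩) else 0
  refine hmin σ.1 σ.2 (no_const_relation (fun t ht => (hTH ht).2) σ.2 hσ0 c ?_ ?_)
  · rw [← Finset.sum_coe_sort]
    refine (Finset.sum_congr rfl fun s _ => ?_).trans hrel
    simp [c]
  · simp only [c, dif_pos σ.2, coeff_push]
    exact hφ

end Groth.Agent.PointsP2
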