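import Mathlib.RingTheory.MvPolynomial.Homogeneous
import Mathlib.RingTheory.Ideal.Basic
import Mathlib.Algebra.MvPolynomial.Funext
import Mathlib.Algebra.MvPolynomial.Division
import Mathlib.LinearAlgebra.Matrix.NonsingularInverse
import Mathlib.LinearAlgebra.Matrix.ToLinearEquiv
import Mathlib.GroupTheory.CosetCover
import Mathlib.Tactic

/-! Few generators for the forms vanishing on points of the plane (infinite field). -/

namespace Groth.Agent.PointsP2

open MvPolynomial

variable {K : Type*} [Field K]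

/-- The monomial `X₀ ^ j * X₁ ^ i`. -/
noncomputable def mn (j i : ℕ) : Fin 3 →₀ ℕ := Finsupp.single 0 j + Finsupp.single 1 i

theorem mn_add (a b j i : ℕ) : mn a b + mn j i = mn (a + j) (b + i) := by
  ext x
  fin_cases x <;> simp [mn]

theorem mn_deg {g : MvPolynomial (Fin 3) K} {e : ℕ} (hg : g.IsHomogeneous e) {j i : ℕ}
    (h : coeff (mn j i) g ≠ 0) : j + i = e := by
  have := hg h
  rw [← this, Finsupp.weight_apply, Finsupp.sum_fintype _ _ (by simp)]
  simp [Fin.sum_univ_three, mn]

/-- A form vanishing on `Z`. -/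
def Van (Z : Finset (Fin 3 → K)) (g : MvPolynomial (Fin 3) K) : Prop := ∀ p ∈ Z, eval p g = 0

theorem stair (Z : Finset (Fin 3 → K)) (hZ : ∀ p ∈ Z, p 2 ≠ 0) (d : ℕ)
    (f : MvPolynomial (Fin 3) K) (hf : f.IsHomogeneous d) (hfv : Van Z f)
    (hf1 : coeff (mn 0 d) f ≠ 0) :
    ∃ g : Fin (d + 1) → MvPolynomial (Fin 3) K,
      (∀ i, Van Z (g i) ∧ ∃ e, (g i).IsHomogeneous e) ∧ ∀ h : MvPolynomial (Fin 3) K, ∀ e, h.IsHomogeneous e → Van Z h →
        h ∈ Ideal.span (Set.range g) := by
  classical
  let Lead : ℕ → ℕ → Prop := fun b e => ∃ g : MvPolynomial (Fin 3) K, g.IsHomogeneous e ∧ Van Z g ∧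
    coeff (mn (e - b) b) g ≠ 0 ∧ ∀ j i, b < i → coeff (mn j i) g = 0
  have hLd : Lead d d := ⟨f, hf, hfv, by rwa [Nat.sub_self], fun j i hi => by
    by_contra h
    have := mn_deg hf h
    omega⟩
  let g₀ : ℕ → MvPolynomial (Fin 3) K := fun b =>
    if h : ∃ e, Lead b e then (Nat.find_spec h).choose else 0
  refine ⟨fun i => if (i : ℕ) = d then f else g₀ i, fun i => ?_, ?_⟩
  · dsimp only
    split_ifs with h
    · exact ⟨hfv, d, hf⟩
    · simp only [g₀]
      split_ifs with h'
      · exact ⟨(Nat.find_spec h').choose_spec.2.1, _, (Nat.find_spec h').choose_spec.1⟩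
      · exact ⟨fun p _ => by simp, 0, isHomogeneous_zero _ _ _⟩
  set S := Ideal.span (Set.range fun i : Fin (d + 1) => if (i : ℕ) = d then f else g₀ i) with hS
  have hmem : ∀ b, b ≤ d → (if b = d then f else g₀ b) ∈ S := fun b hb =>
    Ideal.subset_span ⟨⟨b, Nat.lt_succ_of_le hb⟩, rfl⟩
  intro h e
  induction e using Nat.strong_induction_on generalizing h with
  | _ e IH =>
  intro he hv
  suffices ∀ b, ∀ h : MvPolynomial (Fin 3) K, h.IsHomogeneous e → Van Z h →
      (∀ j i, b ≤ i → coeff (mn j i) h = 0) → h ∈ S by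
    refine this (e + 1) h he hv fun j i hi => ?_
    by_contra hne
    have := mn_deg he hne
    omega
  clear he hv h
  intro b
  induction b with
  | zero =>
    intro h he hv h0
    have hX : X (2 : Fin 3) ∣ h := by
      rw [X_dvd_iff_modMonomial_eq_zero]
      ext m
      by_cases hm : Finsupp.single (2 : Fin 3) 1 ≤ m
      · rw [coeff_modMonomial_of_le _ hm, coeff_zero]
      · rw [coeff_modMonomial_of_not_le _ hm, coeff_zero]
        have : m = mn (m 0) (m 1) := by
          have h2 : m 2 = 0 := by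
            by_contra h2
            exact hm (Finsupp.single_le_iff.2 (Nat.pos_of_ne_zero h2))
          ext x; fin_cases x <;> simp [mn, h2]
        rw [this]
        exact h0 _ _ (Nat.zero_le _)
    obtain ⟨h', rfl⟩ := hX
    by_cases hz : h' = 0
    · simp [hz]
    have hh' : h'.IsHomogeneous (e - 1) ∧ 1 ≤ e := by
      have key : ∀ m, coeff m h' ≠ 0 → Finsupp.weight 1 m + 1 = e := by
        intro m hm
        have := he (show coeff (Finsupp.single 2 1 + m) (X 2 * h') ≠ 0 by
          rwa [coeff_X_mul])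
        rw [map_add, Finsupp.weight_single] at this
        simp only [Pi.one_apply, smul_eq_mul, mul_one] at this
        omega
      obtain ⟨m, hm⟩ := ne_zero_iff.1 hz
      exact ⟨fun m hm => by have := key m hm; simp only [Pi.one_def] at *; omega,
        by have := key m hm; omega⟩
    refine S.mul_mem_left _ (IH (e - 1) (by omega) h' hh'.1 fun p hp => ?_)
    have := hv p hp
    rw [map_mul, eval_X] at this
    exact (mul_eq_zero.1 this).resolve_left (hZ p hp)
  | succ b ih =>
    intro h he hv h0
    by_cases hc : ∀ j, coeff (mn j b) h = 0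
    · refine ih h he hv fun j i hi => ?_
      rcases eq_or_lt_of_le hi with rfl | hlt
      · exact hc j
      · exact h0 j i hlt
    push Not at hc
    obtain ⟨j₀, hj₀⟩ := hc
    have hdeg := mn_deg he hj₀
    have hL : Lead b e := ⟨h, he, hv, by rwa [show e - b = j₀ by omega], fun j i hi => h0 j i hi⟩
    obtain ⟨q, a, a', hqe, hqS, hqv, hqc, hqz⟩ : ∃ (q : MvPolynomial (Fin 3) K) (a a' : ℕ),
        (monomial (mn a a') 1 * q).IsHomogeneous e ∧ q ∈ S ∧ Van Z q ∧
        coeff (mn j₀ b) (monomial (mn a a') 1 * q) ≠ 0 ∧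
        ∀ j i, b < i → coeff (mn j i) (monomial (mn a a') 1 * q) = 0 := by
      by_cases hbd : d ≤ b
      · refine ⟨f, j₀, b - d, ?_, ?_, hfv, ?_, fun j i hi => ?_⟩
        · have := (isHomogeneous_monomial (R := K) (σ := Fin 3) 1 (d := mn j₀ (b - d))
            (n := e - d) ?_).mul hf
          · rwa [Nat.sub_add_cancel (by omega)] at this
          · rw [Finsupp.degree_eq_sum]; simp [Fin.sum_univ_three, mn]; omega
        · simpa using hmem d le_rfl
        · rw [show mn j₀ b = mn j₀ (b - d) + mn 0 d by rw [mn_add]; congr 1; omega,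
            coeff_monomial_mul, one_mul]
          exact hf1
        · rw [coeff_monomial_mul']
          split_ifs with hle
          · rw [one_mul]
            by_contra hne
            have e1 : mn j i - mn j₀ (b - d) = mn (j - j₀) (i - (b - d)) := by
              ext x; fin_cases x <;> simp [mn]
            rw [e1] at hne
            have := mn_deg hf hne
            omega
          · rfl
      · have hex : ∃ e, Lead b e := ⟨e, hL⟩
        obtain ⟨hge, hgv, hgc, hgz⟩ := (Nat.find_spec hex).choose_spec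
        set e' := Nat.find hex
        have hee : e' ≤ e := Nat.find_min' hex hL
        set g := (Nat.find_spec hex).choose
        have hg0 : g₀ b = g := by simp only [g₀, dif_pos hex]; rfl
        have hbe : b ≤ e' := by
          by_contra hlt
          exact hgc (by
            by_contra hne
            have := mn_deg hge hne
            omega)
        refine ⟨g, e - e', 0, ?_, ?_, hgv, ?_, fun j i hi => ?_⟩
        · have := (isHomogeneous_monomial (R := K) (σ := Fin 3) 1 (d := mn (e - e') 0)
            (n := e - e') ?_).mul hge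
          · rwa [Nat.sub_add_cancel hee] at this
          · rw [Finsupp.degree_eq_sum]; simp [Fin.sum_univ_three, mn]
        · have := hmem b (by omega)
          rwa [if_neg (by omega), hg0] at this
        · rw [show mn j₀ b = mn (e - e') 0 + mn (e' - b) b by rw [mn_add]; congr 1 <;> omega,
            coeff_monomial_mul, one_mul]
          exact hgc
        · rw [coeff_monomial_mul']
          split_ifs with hle
          · rw [one_mul, show mn j i - mn (e - e') 0 = mn (j - (e - e')) i by
              ext x; fin_cases x <;> simp [mn]]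
            exact hgz _ _ hi
          · rfl
    set m := monomial (mn a a') (1 : K) * q with hm
    set c := coeff (mn j₀ b) h / coeff (mn j₀ b) m with hcdef
    have hmS : C c * m ∈ S := S.mul_mem_left _ (S.mul_mem_left _ hqS)
    have hrest : h - C c * m ∈ S := by
      refine ih _ (he.sub ?_) (fun p hp => ?_) fun j i hi => ?_
      · exact hqe.C_mul _
      · rw [map_sub, map_mul, hm, map_mul, hv p hp, hqv p hp]; ring
      · rw [coeff_sub, coeff_C_mul]
        rcases eq_or_lt_of_le hi with rfl | hlt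
        · by_cases hj : j = j₀
          · subst hj; rw [hcdef, div_mul_cancel₀ _ hqc, sub_self]
          · have h1 : coeff (mn j b) h = 0 := by
              by_contra hne; have := mn_deg he hne; omega
            have h2 : coeff (mn j b) m = 0 := by
              by_contra hne; have := mn_deg hqe hne; omega
            rw [h1, h2, mul_zero, sub_zero]
        · rw [h0 j i hlt, hqz j i hlt, mul_zero, sub_zero]
    simpa using S.add_mem hrest hmS

/-- Linear substitution. -/
noncomputable def sub (M : Matrix (Fin 3) (Fin 3) K) :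
    MvPolynomial (Fin 3) K →ₐ[K] MvPolynomial (Fin 3) K :=
  aeval fun i => ∑ j, C (M i j) * X j

theorem eval_sub (M : Matrix (Fin 3) (Fin 3) K) (f : MvPolynomial (Fin 3) K) (v : Fin 3 → K) :
    eval v (sub M f) = eval (M.mulVec v) f := by
  induction f using MvPolynomial.induction_on with
  | C a => simp [sub]
  | add p q hp hq => rw [map_add, map_add, hp, hq, map_add]
  | mul_X p i hp =>
    rw [map_mul, map_mul, hp, map_mul, eval_X, sub, aeval_X]
    simp [Matrix.mulVec, dotProduct]

theorem sub_homogeneous (M : Matrix (Fin 3) (Fin 3) K) {f : MvPolynomial (Fin 3) K} {e : ℕ}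
    (hf : f.IsHomogeneous e) : (sub M f).IsHomogeneous e := by
  have h := hf.aeval (fun i => ∑ j, C (M i j) * X j) (n := 1) fun i =>
    IsHomogeneous.sum _ _ _ fun j _ => by simpa using (isHomogeneous_C (Fin 3) (M i j)).mul (isHomogeneous_X K j)
  simpa [sub] using h

theorem coeff_mn_zero {f : MvPolynomial (Fin 3) K} {d : ℕ} (hf : f.IsHomogeneous d) :
    coeff (mn 0 d) f = eval ![0, 1, 0] f := by
  classical
  rw [eval_eq', Finset.sum_eq_single (mn 0 d)]
  · simp [Fin.prod_univ_three, mn]
  · intro m hm hne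
    rw [Finset.prod_eq_zero_iff.2, mul_zero]
    by_contra hcon
    push Not at hcon
    apply hne
    have hd := hf (mem_support_iff.1 hm)
    have h0 : m 0 = 0 := by
      by_contra h; exact hcon 0 (Finset.mem_univ _) (by simp [h])
    have h2 : m 2 = 0 := by
      by_contra h; exact hcon 2 (Finset.mem_univ _) (by simp [h])
    rw [Finsupp.weight_apply, Finsupp.sum_fintype _ _ (by simp)] at hd
    simp [Fin.sum_univ_three, h0, h2] at hd
    ext x; fin_cases x <;> simp [mn, h0, h2, hd]
  · intro h
    rw [notMem_support_iff.1 h, zero_mul]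

set_option maxHeartbeats 1600000 in
/-- At most `d + 1` generators. -/
theorem gens [Infinite K] (Z : Finset (Fin 3 → K)) (hZ : ∀ p ∈ Z, p ≠ 0) (d : ℕ)
    (f : MvPolynomial (Fin 3) K) (hf : f.IsHomogeneous d) (hf0 : f ≠ 0) (hfv : Van Z f) :
    ∃ g : Fin (d + 1) → MvPolynomial (Fin 3) K,
      (∀ i, Van Z (g i) ∧ ∃ e, (g i).IsHomogeneous e) ∧ ∀ h : MvPolynomial (Fin 3) K, ∀ e, h.IsHomogeneous e → Van Z h →
        h ∈ Ideal.span (Set.range g) := by
  classical
  obtain ⟨q, hq⟩ : ∃ q, eval q f ≠ 0 := by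
    by_contra h; push Not at h; exact hf0 (MvPolynomial.funext fun v => by rw [h v, map_zero])
  rcases d.eq_zero_or_pos with rfl | hd
  · -- a nonzero constant vanishing on `Z` forces `Z = ∅`
    refine ⟨fun _ => f, fun _ => ⟨hfv, 0, hf⟩, fun h e _ _ => ?_⟩
    have : f = C (coeff 0 f) := totalDegree_eq_zero_iff_eq_C.1 (Nat.le_zero.1 hf.totalDegree_le)
    have hc : coeff 0 f ≠ 0 := fun hc => hf0 (by rw [this, hc, map_zero])
    rw [Set.range_const, this, Ideal.span_singleton_eq_top.2 ((IsUnit.mk0 _ hc).map C)]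
    exact Submodule.mem_top
  have hq0 : q ≠ 0 := by
    rintro rfl
    refine hq ?_
    rw [eval_zero, constantCoeff_eq]
    by_contra h
    have := hf h
    simp at this
    omega
  have hne : ∀ p ∈ Z, p ∉ Submodule.span K {q} := by
    intro p hp hmem
    obtain ⟨c, hc⟩ := Submodule.mem_span_singleton.1 hmem
    have hc0 : c ≠ 0 := by rintro rfl; exact hZ p hp (by rw [← hc, zero_smul])
    apply hq
    have h := hfv p hp
    rw [← hc] at h
    have hsc : eval (c • q) f = c ^ d * eval q f := by
      rw [eval_eq', eval_eq', Finset.mul_sum]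
      refine Finset.sum_congr rfl fun m hm => ?_
      have hd' : m 0 + m 1 + m 2 = d := by
        have := hf (mem_support_iff.1 hm)
        rw [Finsupp.weight_apply, Finsupp.sum_fintype _ _ (by simp)] at this
        simpa [Fin.sum_univ_three] using this
      simp only [Fin.prod_univ_three, Pi.smul_apply, smul_eq_mul, ← hd', mul_pow, pow_add]
      ring
    rw [hsc] at h
    exact (mul_eq_zero.1 h).resolve_left (pow_ne_zero _ hc0)
  -- a functional killing `q`, nonzero on `Z`
  obtain ⟨L, hLq, hLZ⟩ : ∃ L : (Fin 3 → K) →ₗ[K] K, L q = 0 ∧ ∀ p ∈ Z, L p ≠ 0 := by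
    let V : Submodule K ((Fin 3 → K) →ₗ[K] K) := LinearMap.ker (LinearMap.applyₗ q)
    by_contra hcon
    push Not at hcon
    let W : Z → Subspace K V := fun p =>
      LinearMap.ker ((LinearMap.applyₗ (p : Fin 3 → K)).comp V.subtype)
    have hcov : ⋃ p, ((W p : Subspace K V) : Set V) = Set.univ := by
      rw [Set.eq_univ_iff_forall]
      intro L
      obtain ⟨p, hp, hLp⟩ := hcon L.1 L.2
      exact Set.mem_iUnion.2 ⟨⟨p, hp⟩, hLp⟩
    obtain ⟨p, hp⟩ := Subspace.exists_eq_top_of_iUnion_eq_univ (p := W) hcov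
    apply hne p p.2
    by_contra hmem
    obtain ⟨L, hL1, hL2⟩ := Submodule.exists_le_ker_of_notMem (p := Submodule.span K {q}) hmem
    have hL : L q = 0 := hL2 (Submodule.mem_span_singleton_self q)
    have : (⟨L, hL⟩ : V) ∈ W p := hp ▸ Submodule.mem_top
    exact hL1 this
  rcases Z.eq_empty_or_nonempty with rfl | ⟨p₀, hp₀⟩
  · refine ⟨fun _ => 1, fun _ => ⟨fun p hp => absurd hp (Finset.notMem_empty p), 0, isHomogeneous_one _ _⟩, fun h e _ _ => ?_⟩
    rw [Set.range_const, Ideal.span_singleton_one]
    exact Submodule.mem_top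
  -- a basis `e₀, q, e₂` adapted to `L`
  obtain ⟨e₂, he₂⟩ : ∃ e₂, L e₂ = 1 := ⟨(L p₀)⁻¹ • p₀, by simp [hLZ p₀ hp₀]⟩
  have hkq : (⟨q, hLq⟩ : LinearMap.ker L) ≠ 0 := fun h => hq0 (congrArg Subtype.val h)
  have hdim : Module.finrank K (LinearMap.ker L) = 2 := by
    have := L.finrank_range_add_finrank_ker
    rw [LinearMap.range_eq_top.2 (fun c => ⟨c • e₂, by simp [he₂]⟩), finrank_top] at this
    simp at this
    omega
  obtain ⟨e₀, he₀⟩ := exists_linearIndependent_pair_of_one_lt_finrank (R := K) (M := LinearMap.ker L) (hdim ▸ one_lt_two) hkq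
  let M : Matrix (Fin 3) (Fin 3) K := Matrix.of fun i j => (![(e₀ : Fin 3 → K), q, e₂] j) i
  have hM : ∀ v, M.mulVec v = v 0 • (e₀ : Fin 3 → K) + v 1 • q + v 2 • e₂ := by
    intro v; funext i
    simp [M, Matrix.mulVec, dotProduct, Fin.sum_univ_three]; ring
  have hLe₀ : L (e₀ : Fin 3 → K) = 0 := e₀.2
  have hMinj : Function.Injective M.mulVec := by
    have key : ∀ v, M.mulVec v = 0 → v = 0 := by
      intro v hv
      rw [hM] at hv
      have h2 : v 2 = 0 := by simpa [hLe₀, hLq, he₂] using congrArg L hv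
      rw [h2, zero_smul, add_zero] at hv
      rw [LinearIndependent.pair_iff] at he₀
      obtain ⟨h1, h0⟩ := he₀ (v 1) (v 0) (Subtype.ext (by simpa [add_comm] using hv))
      funext i; fin_cases i <;> simp [h0, h1, h2]
    intro x y hxy
    exact sub_eq_zero.1 (key _ (by rw [Matrix.mulVec_sub, hxy, sub_self]))
  have hU : IsUnit M.det :=
    (Matrix.isUnit_iff_isUnit_det M).1 (Matrix.mulVec_injective_iff_isUnit.1 hMinj)
  have hMi : ∀ v, M.mulVec (M⁻¹.mulVec v) = v := fun v => by
    rw [Matrix.mulVec_mulVec, Matrix.mul_nonsing_inv M hU, Matrix.one_mulVec]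
  let Z' := Z.image M⁻¹.mulVec
  have hvan : ∀ {g}, Van Z g ↔ Van Z' (sub M g) := by
    intro g
    simp [Van, Z', eval_sub, hMi]
  have hZ' : ∀ p ∈ Z', p 2 ≠ 0 := by
    simp only [Z', Finset.mem_image]
    rintro _ ⟨p, hp, rfl⟩ h
    apply hLZ p hp
    rw [← hMi p, hM]
    simp [hLe₀, hLq, he₂, h]
  have hf1 : coeff (mn 0 d) (sub M f) ≠ 0 := by
    rw [coeff_mn_zero (sub_homogeneous M hf), eval_sub, hM]
    simpa using hq
  obtain ⟨g, hg, hgen⟩ := stair Z' hZ' d (sub M f) (sub_homogeneous M hf) (hvan.1 hfv) hf1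
  have hback : ∀ g, sub M⁻¹ (sub M g) = g := fun g => MvPolynomial.funext fun v => by
    rw [eval_sub, eval_sub, hMi]
  refine ⟨fun i => sub M⁻¹ (g i), fun i => ⟨fun p hp => ?_, ?_⟩, fun h e he hv => ?_⟩
  · rw [eval_sub]; exact (hg i).1 _ (Finset.mem_image_of_mem _ hp)
  · obtain ⟨e, he⟩ := (hg i).2; exact ⟨e, sub_homogeneous _ he⟩
  · have := Ideal.mem_map_of_mem (sub M⁻¹) (hgen _ e (sub_homogeneous M he) (hvan.1 hv))
    rw [hback, Ideal.map_span, ← Set.range_comp] at this
    exact this

end Groth.Agent.PointsP2
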